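import Groth.Agent.VCov93.Cover
import Groth.Agent.FDesc60.Topo2
import Groth.Prelude.Def_SGA1

namespace Groth.Agent.VCov93

open CategoryTheory CategoryTheory.Limits AlgebraicGeometry TopologicalSpace

universe w u

theorem surjective_of_hasValLift {T : Scheme.{u}} {E : PreZeroHypercover.{w} T}
    (hE : HTop.HasValLift E) (t : T) : ∃ (j : E.I₀) (x : E.X j), E.f j x = t := by
  obtain ⟨V, i1, i2, ψ, hψ, -⟩ := exists_val_of_specializes (specializes_rfl : t ⤳ t)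
  obtain ⟨W, i1', i2', φ, hφ, j, g', hg'⟩ := hE V ψ
  refine ⟨j, g' (genPt W), ?_⟩
  rw [← Scheme.Hom.comp_apply, hg', Scheme.Hom.comp_apply, map_genPt φ hφ.1, hψ]

theorem surjective_of_isVCover {T : Scheme.{u}} {E : PreZeroHypercover.{w} T}
    (hE : HTop.IsVCover E) (t : T) : ∃ (j : E.I₀) (x : E.X j), E.f j x = t := by
  obtain ⟨U, hU, htU, -⟩ := Opens.isBasis_iff_nbhd.1 T.isBasis_affineOpens (Opens.mem_top t)
  obtain ⟨F, hF, href⟩ := hE ⟨U, hU⟩
  obtain ⟨j, x, hx⟩ := surjective_of_hasValLift hF.lift ⟨t, htU⟩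
  obtain ⟨i, h, hh⟩ := href j
  refine ⟨i, h x, ?_⟩
  rw [← Scheme.Hom.comp_apply, hh, Scheme.Hom.comp_apply, hx]
  rfl

theorem isClosed_of_isStandardV {T : Scheme.{u}} {F : PreZeroHypercover.{w} T}
    (hF : HTop.IsStandardV F) (A : Set T) (hA : ∀ j, IsClosed (F.f j ⁻¹' A)) : IsClosed A := by
  have := hF.finite_index
  have := hF.isAffine
  have hcov : A = ⋃ j, F.f j '' (F.f j ⁻¹' A) := by
    refine subset_antisymm (fun t ht => ?_) (Set.iUnion_subset fun j => Set.image_preimage_subset _ _)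
    obtain ⟨j, x, rfl⟩ := surjective_of_hasValLift hF.lift t
    exact Set.mem_iUnion.2 ⟨j, x, ht, rfl⟩
  refine isClosed_of_closure_subset fun y hy => ?_
  rw [hcov, closure_iUnion_of_finite, Set.mem_iUnion] at hy
  obtain ⟨j, hj⟩ := hy
  have := hF.isAffine_obj j
  let I := Scheme.IdealSheafData.vanishingIdeal (X := F.X j) ⟨_, hA j⟩
  have hr : Set.range I.subschemeι = F.f j ⁻¹' A :=
    I.range_subschemeι.trans (Scheme.IdealSheafData.coe_support_vanishingIdeal _)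
  have hr' : Set.range (I.subschemeι ≫ F.f j) = F.f j '' (F.f j ⁻¹' A) := by
    rw [← hr, ← Set.range_comp]
    rfl
  rw [← hr'] at hj
  obtain ⟨z, hz⟩ := FDesc60.exists_specializes_of_mem_closure_range (I.subschemeι ≫ F.f j) hj
  have hzA : (I.subschemeι ≫ F.f j) z ∈ A := by
    have : I.subschemeι z ∈ F.f j ⁻¹' A := hr ▸ ⟨z, rfl⟩
    exact this
  obtain ⟨V, i1, i2, ψ, hψ1, hψ2⟩ := exists_val_of_specializes hz
  obtain ⟨W, i1', i2', φ, hφ, l, g', hg'⟩ := hF.lift V ψ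
  have hgen : g' (genPt W) ∈ F.f l ⁻¹' A := by
    rwa [Set.mem_preimage, ← Scheme.Hom.comp_apply, hg', Scheme.Hom.comp_apply,
      map_genPt φ hφ.1, hψ1]
  have hcl : g' (clPt W) ∈ F.f l ⁻¹' A :=
    ((genPt_specializes W _).map g'.continuous).mem_closed (hA l) hgen
  rwa [Set.mem_preimage, ← Scheme.Hom.comp_apply, hg', Scheme.Hom.comp_apply, map_clPt φ hφ.2,
    hψ2] at hcl

theorem isClosed_of_isVCover {T : Scheme.{u}} {E : PreZeroHypercover.{w} T}
    (hE : HTop.IsVCover E) (A : Set T) (hA : ∀ j, IsClosed (E.f j ⁻¹' A)) : IsClosed A := by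
  rw [← isOpen_compl_iff]
  refine isOpen_iff_mem_nhds.2 fun t ht => ?_
  obtain ⟨U, hU, htU, -⟩ := Opens.isBasis_iff_nbhd.1 T.isBasis_affineOpens (Opens.mem_top t)
  let U : T.Opens := U
  obtain ⟨F, hF, href⟩ := hE ⟨U, hU⟩
  have hc : IsClosed (U.ι ⁻¹' A) := by
    refine isClosed_of_isStandardV hF _ fun j => ?_
    obtain ⟨i, h, hh⟩ := href j
    have : F.f j ⁻¹' (U.ι ⁻¹' A) = h ⁻¹' (E.f i ⁻¹' A) := by
      ext x
      show U.ι (F.f j x) ∈ A ↔ E.f i (h x) ∈ A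
      rw [← Scheme.Hom.comp_apply h, hh]
      rfl
    rw [this]
    exact (hA i).preimage h.continuous
  refine Filter.mem_of_superset
    ((U.ι.isOpenEmbedding.isOpenMap _ hc.isOpen_compl).mem_nhds
      (show t ∈ U.ι '' (U.ι ⁻¹' A)ᶜ from ⟨⟨t, htU⟩, ht, rfl⟩)) ?_
  rintro _ ⟨x, hx, rfl⟩
  exact hx

theorem univSubmersive_sigmaDesc {X : Scheme.{u}} {E : PreZeroHypercover.{u} X}
    (hE : HTop.IsVCover E) : SGA1.UnivSubmersive (Sigma.desc E.f) := by
  intro P X' i₁ i₂ f' sq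
  change IsPullback f' i₁ i₂ (Sigma.desc E.f) at sq
  change Topology.IsQuotientMap f'
  have hE' := isVCover_pullback i₂ hE
  let l : ∀ i, pullback i₂ (E.f i) ⟶ P := fun i =>
    sq.lift (pullback.fst i₂ (E.f i)) (pullback.snd i₂ (E.f i) ≫ Sigma.ι E.X i)
      (by rw [Category.assoc, Sigma.ι_desc, pullback.condition])
  have hl : ∀ i, l i ≫ f' = pullback.fst i₂ (E.f i) := fun i => sq.lift_fst _ _ _
  rw [Topology.isQuotientMap_iff_isClosed]
  refine ⟨fun t => ?_, fun A => ⟨fun h => h.preimage f'.continuous, fun h => ?_⟩⟩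
  · obtain ⟨i, x, hx⟩ := surjective_of_isVCover hE' t
    exact ⟨l i x, (congrArg (fun m : pullback i₂ (E.f i) ⟶ X' => m x) (hl i)).trans hx⟩
  · refine isClosed_of_isVCover hE' A fun i => ?_
    have : (E.pullback₁ i₂).f i ⁻¹' A = l i ⁻¹' (f' ⁻¹' A) := by
      ext x
      show pullback.fst i₂ (E.f i) x ∈ A ↔ f' (l i x) ∈ A
      rw [show f' (l i x) = pullback.fst i₂ (E.f i) x from
        congrArg (fun m : pullback i₂ (E.f i) ⟶ X' => m x) (hl i)]
    rw [this]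
    exact h.preimage (l i).continuous

end Groth.Agent.VCov93
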