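import Groth.Agent.VCov93.Basic

namespace Groth.Agent.VCov93

open CategoryTheory CategoryTheory.Limits AlgebraicGeometry

universe w w' u

/-- A finite family of affine opens covering an affine scheme is a standard V covering. -/
theorem isStandardV_opens {Z : Scheme.{u}} [IsAffine Z] {m : ℕ} (W : Fin m → Z.Opens)
    (hW : ∀ k, IsAffineOpen (W k)) (hcov : ∀ z : Z, ∃ k, z ∈ W k) :
    HTop.IsStandardV (⟨Fin m, fun k => ((W k : Z.Opens) : Scheme.{u}), fun k => (W k).ι⟩ :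
      PreZeroHypercover.{0} Z) := by
  refine isStandardV_of_flat (inferInstanceAs (Finite (Fin m))) (fun k => hW k)
    (fun k => inferInstanceAs (Flat (W k).ι)) fun z => ?_
  obtain ⟨k, hk⟩ := hcov z
  exact ⟨k, ⟨z, hk⟩, rfl⟩

/-- A V covering can be refined by a standard one over every affine scheme mapping to the base. -/
theorem exists_standard_refining {T : Scheme.{u}} {E : PreZeroHypercover.{w} T}
    (hE : HTop.IsVCover E) {Z : Scheme.{u}} [IsAffine Z] (g : Z ⟶ T) :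
    ∃ F : PreZeroHypercover.{0} Z, HTop.IsStandardV F ∧ HTop.RefinesOver g F E := by
  classical
  have hloc : ∀ z : Z, ∃ (W : Z.Opens) (U : T.affineOpens), IsAffineOpen W ∧ z ∈ W ∧
      Set.range (W.ι ≫ g) ⊆ (U : T.Opens) := by
    intro z
    obtain ⟨U, hU, hzU, -⟩ := TopologicalSpace.Opens.isBasis_iff_nbhd.1 T.isBasis_affineOpens
      (TopologicalSpace.Opens.mem_top (g z))
    obtain ⟨W, hW, hzW, hWle⟩ := TopologicalSpace.Opens.isBasis_iff_nbhd.1 Z.isBasis_affineOpens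
      (show z ∈ g ⁻¹ᵁ U from hzU)
    refine ⟨W, ⟨U, hU⟩, hW, hzW, ?_⟩
    rintro _ ⟨⟨a, ha⟩, rfl⟩
    exact hWle ha
  choose W U hW hzW hrange using hloc
  obtain ⟨t, ht⟩ := isCompact_univ.elim_finite_subcover (fun z => (W z : Set Z))
    (fun z => (W z).2) fun z _ => Set.mem_iUnion.2 ⟨z, hzW z⟩
  let e := t.equivFin.symm
  let W' : Fin t.card → Z.Opens := fun k => W (e k)
  have hcov : ∀ z : Z, ∃ k, z ∈ W' k := fun z => by
    obtain ⟨a, hat, ha⟩ := Set.mem_iUnion₂.1 (ht (Set.mem_univ z))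
    exact ⟨t.equivFin ⟨a, hat⟩, by simpa [W', e] using ha⟩
  let G : PreZeroHypercover.{0} Z :=
    ⟨Fin t.card, fun k => ((W' k : Z.Opens) : Scheme.{u}), fun k => (W' k).ι⟩
  have hG : HTop.IsStandardV G := isStandardV_opens W' (fun k => hW _) hcov
  choose F hF hFref using fun k : Fin t.card => hE (U (e k))
  let ℓ : ∀ k : Fin t.card, G.X k ⟶ ((U (e k) : T.Opens) : Scheme.{u}) := fun k =>
    IsOpenImmersion.lift (U (e k) : T.Opens).ι ((W' k).ι ≫ g) (by
      rw [Scheme.Opens.range_ι]; exact hrange _)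
  refine ⟨G.bind fun k => (F k).pullback₁ (ℓ k), isStandardV_bind hG fun k => ?_, ?_⟩
  · have := hW (e k : Z)
    exact @isStandardV_pullback _ _ (hG.isAffine_obj k) (ℓ k) _ (hF k)
  · refine refinesOver_bind fun k l => ?_
    obtain ⟨i, h, hh⟩ := hFref k l
    refine ⟨i, pullback.snd (ℓ k) ((F k).f l) ≫ h, ?_⟩
    show (pullback.snd _ _ ≫ h) ≫ E.f i = pullback.fst _ _ ≫ (W' k).ι ≫ g
    rw [Category.assoc, hh, ← pullback.condition_assoc, IsOpenImmersion.lift_fac]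

theorem isVCover_pullback {T T' : Scheme.{u}} (g : T' ⟶ T) {E : PreZeroHypercover.{w} T}
    (hE : HTop.IsVCover E) : HTop.IsVCover (E.pullback₁ g) := by
  intro U
  haveI : IsAffine (U : T'.Opens) := U.2
  obtain ⟨F, hF, hFref⟩ := exists_standard_refining hE ((U : T'.Opens).ι ≫ g)
  refine ⟨F, hF, fun l => ?_⟩
  obtain ⟨i, h, hh⟩ := hFref l
  exact ⟨i, pullback.lift (F.f l ≫ (U : T'.Opens).ι) h (by rw [Category.assoc, hh]),
    pullback.lift_fst _ _ _⟩

theorem isVCover_bind {T : Scheme.{u}} {E : PreZeroHypercover.{w} T} (hE : HTop.IsVCover E)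
    {F : ∀ i, PreZeroHypercover.{w'} (E.X i)} (hF : ∀ i, HTop.IsVCover (F i)) :
    HTop.IsVCover (E.bind F) := by
  intro U
  obtain ⟨G, hG, hGref⟩ := hE U
  choose i h hh using hGref
  have hK : ∀ k : G.I₀, ∃ K : PreZeroHypercover.{0} (G.X k),
      HTop.IsStandardV K ∧ HTop.RefinesOver (h k) K (F (i k)) := fun k => by
    have := hG.isAffine_obj k
    exact exists_standard_refining (hF (i k)) (h k)
  choose K hK hKref using hK
  refine ⟨G.bind K, isStandardV_bind hG hK, refinesOver_bind fun k l => ?_⟩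
  obtain ⟨p, t, ht⟩ := hKref k l
  refine ⟨⟨i k, p⟩, t, ?_⟩
  show t ≫ (F (i k)).f p ≫ E.f (i k) = _
  rw [← Category.assoc, ht, Category.assoc, hh]

theorem isVCover_of_fpqc {T : Scheme.{u}} (𝒰 : Scheme.Cover Scheme.fpqcPrecoverage T) :
    HTop.IsVCover 𝒰.toPreZeroHypercover := by
  intro U
  have hqc : QuasiCompactCover 𝒰.toPreZeroHypercover :=
    Scheme.presieve₀_mem_qcPrecoverage_iff.1 𝒰.mem₀.1
  have hflat : ∀ i, Flat (𝒰.f i) := ((Scheme.presieve₀_mem_precoverage_iff _).1 𝒰.mem₀.2).2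
  obtain ⟨n, a, V, hV, heq⟩ :=
    QuasiCompactCover.exists_isAffineOpen_of_isCompact 𝒰.toPreZeroHypercover U.2.isCompact
  have hsub : ∀ k, Set.range ((V k).ι ≫ 𝒰.f (a k)) ⊆ Set.range (U : T.Opens).ι := by
    intro k
    rw [Scheme.Opens.range_ι]
    rintro _ ⟨⟨x, hx⟩, rfl⟩
    rw [← heq]
    exact Set.mem_iUnion.2 ⟨k, x, hx, rfl⟩
  let F : PreZeroHypercover.{0} ((U : T.Opens) : Scheme.{u}) :=
    ⟨Fin n, fun k => ((V k : Scheme.Opens _) : Scheme.{u}),
      fun k => IsOpenImmersion.lift (U : T.Opens).ι ((V k).ι ≫ 𝒰.f (a k)) (hsub k)⟩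
  haveI : IsAffine (U : T.Opens) := U.2
  refine ⟨F, isStandardV_of_flat (inferInstanceAs (Finite (Fin n))) (fun k => hV k) (fun k => ?_)
    (fun t => ?_), fun k => ⟨a k, (V k).ι, (IsOpenImmersion.lift_fac _ _ _).symm⟩⟩
  · have := hflat (a k)
    have hcomp : F.f k ≫ (U : T.Opens).ι = (V k).ι ≫ 𝒰.f (a k) := IsOpenImmersion.lift_fac _ _ _
    have hpb : IsPullback (𝟙 (F.X k)) (F.f k) ((V k).ι ≫ 𝒰.f (a k)) (U : T.Opens).ι :=
      IsPullback.of_isLimit' ⟨by rw [Category.id_comp, hcomp]⟩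
        (PullbackCone.IsLimit.mk _ (fun s => s.fst) (fun s => Category.comp_id _)
          (fun s => by
            rw [← cancel_mono (U : T.Opens).ι, Category.assoc, hcomp, s.condition])
          (fun s m h1 _ => by simpa using h1))
    exact MorphismProperty.of_isPullback (P := @Flat) hpb inferInstance
  · have ht : (t.1 : T) ∈ ⋃ k, 𝒰.f (a k) '' (V k : Set (𝒰.X (a k))) := by rw [heq]; exact t.2
    obtain ⟨k, x, hx, hxt⟩ := Set.mem_iUnion.1 ht
    refine ⟨k, ⟨x, hx⟩, (U : T.Opens).ι.isOpenEmbedding.injective ?_⟩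
    exact (congrArg (fun m : ((V k : Scheme.Opens _) : Scheme.{u}) ⟶ T => m ⟨x, hx⟩)
      (IsOpenImmersion.lift_fac (U : T.Opens).ι ((V k).ι ≫ 𝒰.f (a k)) (hsub k))).trans hxt

/-- For a quasi-compact morphism the valuative lifting property gives a V covering. -/
theorem isVCover_of_hasValLift {X Y : Scheme.{u}} (f : X ⟶ Y) [QuasiCompact f]
    (h : HTop.HasValLift (PreZeroHypercover.singleton.{w} f)) :
    HTop.IsVCover (PreZeroHypercover.singleton.{w} f) := by
  classical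
  intro U
  haveI : IsAffine (U : Y.Opens) := U.2
  obtain ⟨S, hS, hSf, hSeq⟩ := X.isBasis_affineOpens.exists_finite_of_isCompact
    (U := f ⁻¹ᵁ (U : Y.Opens)) (QuasiCompact.isCompact_preimage (f := f) _ (U : Y.Opens).2 U.2.isCompact :
      IsCompact ((f ⁻¹ᵁ (U : Y.Opens)) : Set X))
  let e := hSf.toFinset.equivFin.symm
  let W : Fin hSf.toFinset.card → X.Opens := fun k => (e k).1
  have hmem : ∀ k, W k ∈ S := fun k => hSf.mem_toFinset.1 (e k).2
  have hle : ∀ k, W k ≤ f ⁻¹ᵁ (U : Y.Opens) := fun k => hSeq ▸ le_sSup (hmem k)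
  let F : PreZeroHypercover.{0} ((U : Y.Opens) : Scheme.{u}) :=
    ⟨Fin hSf.toFinset.card, fun k => ((W k : X.Opens) : Scheme.{u}),
      fun k => IsOpenImmersion.lift (U : Y.Opens).ι ((W k).ι ≫ f) (by
        rw [Scheme.Opens.range_ι]
        rintro _ ⟨⟨x, hx⟩, rfl⟩
        exact hle k hx)⟩
  refine ⟨F, ⟨inferInstance, inferInstanceAs (Finite (Fin _)), fun k => hS (hmem k), ?_⟩,
    fun k => ⟨PUnit.unit, (W k).ι, (IsOpenImmersion.lift_fac _ _ _).symm⟩⟩
  intro V _ _ g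
  obtain ⟨W', i1, i2, φ, hφ, j, g', hg'⟩ := h V (g ≫ (U : Y.Opens).ι)
  let g'' : Spec W' ⟶ X := g'
  have hg'' : g'' ≫ f = Spec.map φ ≫ g ≫ (U : Y.Opens).ι := hg'
  have hin : g'' (clPt W') ∈ sSup S := by
    rw [← hSeq]
    show f (g'' (clPt W')) ∈ (U : Y.Opens)
    rw [← Scheme.Hom.comp_apply, hg'', ← Category.assoc]
    exact ((Spec.map φ ≫ g) (clPt W')).2
  obtain ⟨O, hO, hxO⟩ := TopologicalSpace.Opens.mem_sSup.1 hin
  let k := hSf.toFinset.equivFin ⟨O, hSf.mem_toFinset.2 hO⟩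
  have hk : W k = O := by simp [W, e, k]
  have hsub : Set.range g'' ⊆ Set.range (W k).ι := by
    rw [Scheme.Opens.range_ι, hk]
    rintro _ ⟨a, rfl⟩
    exact ((specializes_clPt a).map g''.continuous).mem_open O.2 hxO
  refine ⟨W', i1, i2, φ, hφ, k, IsOpenImmersion.lift (W k).ι g'' hsub, ?_⟩
  rw [← cancel_mono (U : Y.Opens).ι, Category.assoc, Category.assoc, IsOpenImmersion.lift_fac,
    IsOpenImmersion.lift_fac_assoc, hg'']

theorem hasValLift_singleton {X Y : Scheme.{u}} {f : X ⟶ Y}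
    (h : HTop.HasValLift (PreZeroHypercover.singleton.{w} f)) :
    HTop.HasValLift (PreZeroHypercover.singleton.{w'} f) := by
  intro V _ _ g
  obtain ⟨W, i1, i2, φ, hφ, _, g', hg'⟩ := h V g
  exact ⟨W, i1, i2, φ, hφ, PUnit.unit, g', hg'⟩

theorem hasValLift_of_isVCover {T : Scheme.{u}} {E : PreZeroHypercover.{w} T}
    (hE : HTop.IsVCover E) : HTop.HasValLift E := by
  intro V _ _ g
  obtain ⟨F, hF, hFref⟩ := exists_standard_refining hE g
  obtain ⟨W, i1, i2, φ, hφ, l, g', hg'⟩ := hF.lift V (𝟙 _)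
  obtain ⟨i, h, hh⟩ := hFref l
  refine ⟨W, i1, i2, φ, hφ, i, g' ≫ h, ?_⟩
  rw [Category.assoc, hh, ← Category.assoc, hg', Category.comp_id]

end Groth.Agent.VCov93
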