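import Groth.Prelude.Def_HTop
import Mathlib

namespace Groth.Agent.VCov93

open CategoryTheory CategoryTheory.Limits AlgebraicGeometry IsLocalRing

universe w w' w'' u

/-- The generic point of the spectrum of a domain. -/
noncomputable def genPt (V : CommRingCat.{u}) [IsDomain V] : (Spec V : Scheme.{u}) :=
  (⊥ : PrimeSpectrum V)

/-- The closed point of the spectrum of a local ring, as a point of the scheme. -/
noncomputable def clPt (V : CommRingCat.{u}) [IsLocalRing V] : (Spec V : Scheme.{u}) :=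
  IsLocalRing.closedPoint V

theorem map_clPt {V W : CommRingCat.{u}} [IsLocalRing V] [IsLocalRing W] (φ : V ⟶ W)
    (h : IsLocalHom φ.hom) : Spec.map φ (clPt W) = clPt V :=
  @IsLocalRing.comap_closedPoint _ _ _ _ _ _ _ h

theorem specializes_clPt {V : CommRingCat.{u}} [IsLocalRing V] (x : (Spec V : Scheme.{u})) :
    x ⤳ clPt V :=
  IsLocalRing.specializes_closedPoint x

theorem genPt_specializes (V : CommRingCat.{u}) [IsDomain V] (x : (Spec V : Scheme.{u})) :
    genPt V ⤳ x :=
  (PrimeSpectrum.le_iff_specializes _ _).1 bot_le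

theorem injective_of_map_genPt {V W : CommRingCat.{u}} [IsDomain V] [IsDomain W] (φ : V ⟶ W)
    (h : Spec.map φ (genPt W) = genPt V) : Function.Injective φ.hom := by
  rw [injective_iff_map_eq_zero]
  intro a ha
  have h' : Ideal.comap φ.hom (⊥ : Ideal W) = (⊥ : Ideal V) :=
    congrArg PrimeSpectrum.asIdeal h
  have : a ∈ Ideal.comap φ.hom (⊥ : Ideal W) := by simpa using ha
  rw [h'] at this
  simpa using this

theorem map_genPt {V W : CommRingCat.{u}} [IsDomain V] [IsDomain W] (φ : V ⟶ W)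
    (h : Function.Injective φ.hom) : Spec.map φ (genPt W) = genPt V := by
  refine PrimeSpectrum.ext (le_antisymm (fun a ha => ?_) bot_le)
  have h0 : φ.hom a ∈ (⊥ : Ideal W) := ha
  have h1 : φ.hom a = 0 := Ideal.mem_bot.1 h0
  have : a = 0 := h (by simpa using h1)
  simp [this]

theorem isExtVal_comp {V W W' : CommRingCat.{u}} [IsDomain V] [ValuationRing V] [IsDomain W]
    [ValuationRing W] [IsDomain W'] [ValuationRing W'] {φ : V ⟶ W} {ψ : W ⟶ W'}
    (h : HTop.IsExtVal V W φ) (h' : HTop.IsExtVal W W' ψ) : HTop.IsExtVal V W' (φ ≫ ψ) := by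
  refine ⟨h'.1.comp h.1, ?_⟩
  have := h.2
  have := h'.2
  exact inferInstanceAs (IsLocalHom (ψ.hom.comp φ.hom))

theorem isExtVal_id {V : CommRingCat.{u}} [IsDomain V] [ValuationRing V] :
    HTop.IsExtVal V V (𝟙 V) :=
  ⟨Function.injective_id, ⟨fun _ h => h⟩⟩

/-- A specialization in a scheme is induced by a valuation ring. -/
theorem exists_val_of_specializes {P : Scheme.{u}} {x' x : P} (h : x' ⤳ x) :
    ∃ (A : CommRingCat.{u}) (_ : IsDomain A) (_ : ValuationRing A) (ψ : Spec A ⟶ P),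
      ψ (genPt A) = x' ∧ ψ (clPt A) = x := by
  let f : P.presheaf.stalk x ⟶ P.residueField x' := P.presheaf.stalkSpecializes h ≫ P.residue x'
  obtain ⟨A, hA, hloc⟩ := exists_factor_valuationRing f.hom
  let st : P.presheaf.stalk x ⟶ CommRingCat.of A :=
    CommRingCat.ofHom (f.hom.codRestrict _ hA)
  let inc : CommRingCat.of A ⟶ P.residueField x' := CommRingCat.ofHom A.subtype
  have : IsDomain (CommRingCat.of A) := inferInstanceAs (IsDomain A)
  have : ValuationRing (CommRingCat.of A) := inferInstanceAs (ValuationRing A)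
  have hw : st ≫ inc = P.presheaf.stalkSpecializes h ≫ P.residue x' := rfl
  refine ⟨CommRingCat.of A, inferInstance, inferInstance, Spec.map st ≫ P.fromSpecStalk x, ?_, ?_⟩
  · have hg : Spec.map inc (clPt (P.residueField x')) = genPt (CommRingCat.of A) := by
      refine PrimeSpectrum.ext (le_antisymm (fun a ha => ?_) bot_le)
      have ha' : inc.hom a ∈ maximalIdeal (P.residueField x') := ha
      simp only [maximalIdeal_eq_bot, Ideal.mem_bot] at ha'
      have : a = 0 := Subtype.ext ha'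
      simp [this]
    have hcomp : Spec.map inc ≫ Spec.map st ≫ P.fromSpecStalk x = P.fromSpecResidueField x' := by
      rw [← Spec.map_comp_assoc, hw, Spec.map_comp, Category.assoc,
        Scheme.SpecMap_stalkSpecializes_fromSpecStalk]
      rfl
    rw [← hg]
    exact (congrArg (fun k : Spec (P.residueField x') ⟶ P => k (clPt _)) hcomp).trans
      (Scheme.fromSpecResidueField_apply x' _)
  · rw [Scheme.Hom.comp_apply, map_clPt st hloc]
    exact Scheme.fromSpecStalk_closedPoint

/-- A lift from a specialization in a fibre product. -/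
theorem exists_lift_of_specializes {X T : Scheme.{u}} (f : X ⟶ T) (V : CommRingCat.{u}) [IsDomain V]
    [ValuationRing V] (g : Spec V ⟶ T) (x' x : ↥(pullback f g)) (h : x' ⤳ x)
    (h' : pullback.snd f g x' = genPt V) (hc : pullback.snd f g x = clPt V) :
    ∃ (W : CommRingCat.{u}) (_ : IsDomain W) (_ : ValuationRing W) (φ : V ⟶ W),
      HTop.IsExtVal V W φ ∧ ∃ g' : Spec W ⟶ X, g' ≫ f = Spec.map φ ≫ g := by
  obtain ⟨A, _, _, ψ, hψ1, hψ2⟩ := exists_val_of_specializes h
  refine ⟨A, inferInstance, inferInstance, Spec.preimage (ψ ≫ pullback.snd f g), ⟨?_, ?_⟩,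
    ψ ≫ pullback.fst f g, ?_⟩
  · refine injective_of_map_genPt _ ?_
    rw [Spec.map_preimage, Scheme.Hom.comp_apply, hψ1, h']
  · set φ := Spec.preimage (ψ ≫ pullback.snd f g) with hφ
    have h2 : Spec.map φ (clPt A) = clPt V := by
      rw [hφ, Spec.map_preimage, Scheme.Hom.comp_apply, hψ2, hc]
    have h3 : (maximalIdeal A).comap φ.hom = maximalIdeal V := congrArg PrimeSpectrum.asIdeal h2
    exact ((local_hom_TFAE φ.hom).out 4 0).1 h3
  · rw [Spec.map_preimage, Category.assoc, Category.assoc, pullback.condition]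

/-- A lift gives a specialization in the fibre product. -/
theorem specializes_of_lift {X T : Scheme.{u}} {f : X ⟶ T} {V W : CommRingCat.{u}} [IsDomain V]
    [ValuationRing V] [IsDomain W] [ValuationRing W] {g : Spec V ⟶ T} {φ : V ⟶ W}
    (hφ : HTop.IsExtVal V W φ) {g' : Spec W ⟶ X} (h : g' ≫ f = Spec.map φ ≫ g) :
    ∃ x' x : ↥(pullback f g), x' ⤳ x ∧ pullback.snd f g x' = genPt V ∧
      pullback.snd f g x = clPt V := by
  refine ⟨pullback.lift g' (Spec.map φ) h (genPt W), pullback.lift g' (Spec.map φ) h (clPt W),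
    (genPt_specializes W _).map (pullback.lift g' (Spec.map φ) h).continuous, ?_, ?_⟩
  · rw [← Scheme.Hom.comp_apply, pullback.lift_snd]
    exact map_genPt φ hφ.1
  · rw [← Scheme.Hom.comp_apply, pullback.lift_snd]
    exact map_clPt φ hφ.2

theorem hasValLift_of_refines {T : Scheme.{u}} {F : PreZeroHypercover.{w'} T}
    {E : PreZeroHypercover.{w} T} (h : HTop.RefinesOver (𝟙 T) F E) (hF : HTop.HasValLift F) :
    HTop.HasValLift E := by
  intro V _ _ g
  obtain ⟨W, i1, i2, φ, hφ, j, g', hg'⟩ := hF V g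
  obtain ⟨i, k, hk⟩ := h j
  refine ⟨W, i1, i2, φ, hφ, i, g' ≫ k, ?_⟩
  rw [Category.assoc, hk, Category.comp_id, hg']

theorem hasValLift_pullback {T T' : Scheme.{u}} (g : T' ⟶ T) {E : PreZeroHypercover.{w} T}
    (hE : HTop.HasValLift E) : HTop.HasValLift (E.pullback₁ g) := by
  intro V _ _ g₀
  obtain ⟨W, i1, i2, φ, hφ, j, g', hg'⟩ := hE V (g₀ ≫ g)
  exact ⟨W, i1, i2, φ, hφ, j, pullback.lift (Spec.map φ ≫ g₀) g' (by rw [Category.assoc, hg']),
    pullback.lift_fst _ _ _⟩

theorem hasValLift_bind {T : Scheme.{u}} {E : PreZeroHypercover.{w} T} (hE : HTop.HasValLift E)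
    {F : ∀ j, PreZeroHypercover.{w'} (E.X j)} (hF : ∀ j, HTop.HasValLift (F j)) :
    HTop.HasValLift (E.bind F) := by
  intro V _ _ g
  obtain ⟨W, i1, i2, φ, hφ, j, g', hg'⟩ := hE V g
  obtain ⟨W', i1', i2', ψ, hψ, l, g'', hg''⟩ := hF j W g'
  refine ⟨W', i1', i2', φ ≫ ψ, isExtVal_comp hφ hψ, ⟨j, l⟩, g'', ?_⟩
  show g'' ≫ (F j).f l ≫ E.f j = _
  rw [← Category.assoc, hg'', Category.assoc, hg', Spec.map_comp, Category.assoc]

theorem hasValLift_of_flat {T : Scheme.{u}} {E : PreZeroHypercover.{w} T}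
    (hflat : ∀ j, Flat (E.f j)) (hsurj : ∀ t : T, ∃ (j : E.I₀) (x : E.X j), E.f j x = t) :
    HTop.HasValLift E := by
  intro V _ _ g
  obtain ⟨j, x, hx⟩ := hsurj (g (clPt V))
  obtain ⟨z, -, hz⟩ := Scheme.Pullback.exists_preimage_pullback (f := E.f j) (g := g) x
    (clPt V) hx
  have := hflat j
  have : Flat (pullback.snd (E.f j) g) := inferInstance
  obtain ⟨z', h1, h2⟩ := Flat.generalizingMap (pullback.snd (E.f j) g)
    (show genPt V ⤳ pullback.snd (E.f j) g z from genPt_specializes V _)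
  obtain ⟨W, i1, i2, φ, hφ, g', hg'⟩ := exists_lift_of_specializes (E.f j) V g z' z h1 h2 hz
  exact ⟨W, i1, i2, φ, hφ, j, g', hg'⟩

theorem isStandardV_of_flat {T : Scheme.{u}} [IsAffine T] {E : PreZeroHypercover.{w} T}
    (hfin : Finite E.I₀) (haff : ∀ j, IsAffine (E.X j)) (hflat : ∀ j, Flat (E.f j))
    (hsurj : ∀ t : T, ∃ (j : E.I₀) (x : E.X j), E.f j x = t) : HTop.IsStandardV E :=
  ⟨inferInstance, hfin, haff, hasValLift_of_flat hflat hsurj⟩

theorem exists_lift_of_proper_surjective {U T : Scheme.{u}} (f : U ⟶ T) [IsProper f] [Surjective f]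
    (V : CommRingCat.{u}) [IsDomain V] [ValuationRing V] (g : Spec V ⟶ T) :
    ∃ (W : CommRingCat.{u}) (_ : IsDomain W) (_ : ValuationRing W) (φ : V ⟶ W),
      HTop.IsExtVal V W φ ∧ ∃ g' : Spec W ⟶ U, g' ≫ f = Spec.map φ ≫ g := by
  obtain ⟨u, hu⟩ := f.surjective (g (genPt V))
  obtain ⟨z', -, hz'⟩ := Scheme.Pullback.exists_preimage_pullback (f := f) (g := g) u (genPt V) hu
  have : UniversallyClosed (pullback.snd f g) := inferInstance
  obtain ⟨z, h1, h2⟩ := (pullback.snd f g).isClosedMap.specializingMap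
    (show pullback.snd f g z' ⤳ clPt V by rw [hz']; exact genPt_specializes V _)
  exact exists_lift_of_specializes f V g z' z h1 hz' h2

theorem isStandardV_of_isStandardPh {T : Scheme.{u}} {E : PreZeroHypercover.{w} T}
    (hE : HTop.IsStandardPh E) : HTop.IsStandardV E := by
  refine ⟨hE.isAffine, hE.finite_index, hE.isAffine_obj, ?_⟩
  intro V _ _ g
  obtain ⟨U, f, ι, _, _, hι, hw, hcov⟩ := hE.exists_proper
  obtain ⟨W, i1, i2, φ, hφ, g', hg'⟩ := exists_lift_of_proper_surjective f V g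
  obtain ⟨j, hj⟩ := hcov (g' (clPt W))
  have := hι j
  have hsub : Set.range g' ⊆ Set.range (ι j) := by
    rintro _ ⟨a, rfl⟩
    exact ((specializes_clPt a).map g'.continuous).mem_open
      (ι j).isOpenEmbedding.isOpen_range hj
  refine ⟨W, i1, i2, φ, hφ, j, IsOpenImmersion.lift (ι j) g' hsub, ?_⟩
  rw [← hw j, ← Category.assoc, IsOpenImmersion.lift_fac, hg']

theorem isStandardV_pullback {T T' : Scheme.{u}} [IsAffine T'] (g : T' ⟶ T)
    {E : PreZeroHypercover.{w} T} (hE : HTop.IsStandardV E) : HTop.IsStandardV (E.pullback₁ g) := by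
  have := hE.isAffine
  refine ⟨inferInstance, hE.finite_index, fun j => ?_, hasValLift_pullback g hE.lift⟩
  have := hE.isAffine_obj j
  exact inferInstanceAs (IsAffine (pullback g (E.f j)))

theorem isStandardV_bind {T : Scheme.{u}} {E : PreZeroHypercover.{w} T} (hE : HTop.IsStandardV E)
    {F : ∀ j, PreZeroHypercover.{w'} (E.X j)} (hF : ∀ j, HTop.IsStandardV (F j)) :
    HTop.IsStandardV (E.bind F) := by
  refine ⟨hE.isAffine, ?_, fun ij => (hF ij.1).isAffine_obj ij.2,
    hasValLift_bind hE.lift fun j => (hF j).lift⟩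
  have := hE.finite_index
  have := fun j => (hF j).finite_index
  exact inferInstanceAs (Finite (Σ j, (F j).I₀))

theorem refinesOver_bind {U T : Scheme.{u}} {g : U ⟶ T} {G : PreZeroHypercover.{w} U}
    {F : ∀ k, PreZeroHypercover.{w'} (G.X k)} {E : PreZeroHypercover.{w''} T}
    (h : ∀ k, HTop.RefinesOver (G.f k ≫ g) (F k) E) : HTop.RefinesOver g (G.bind F) E := by
  rintro ⟨k, l⟩
  obtain ⟨i, t, ht⟩ := h k l
  exact ⟨i, t, ht.trans (Category.assoc _ _ _).symm⟩

end Groth.Agent.VCov93
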